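import Cfsg.Agent.H27.F4Two.Data

/-!
`²F₄(2)`: pieces as conjugates of others, checked on words (part 1).
-/
set_option autoImplicit false
set_option maxRecDepth 100000
set_option Elab.async false

namespace Cfsg.Agent.H27.F4Two

open Cfsg.Lie Cfsg.Agent.H37

theorem conj_2 : same2 chevF4 (nW 0 ++ pw 1 ++ nW 0) (pw 2) = true := by
  decide +kernel

theorem conj_4 : same2 chevF4 (nW 0 ++ pw 5 ++ nW 0) (pw 4) = true := by
  decide +kernel

theorem conj_5 : same2 chevF4 (nW 1 ++ pw 2 ++ nW 1) (pw 5) = true := by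
  decide +kernel

theorem conj_6 : same2 chevF4 (nW 1 ++ pw 0 ++ nW 1) (pw 6) = true := by
  decide +kernel

end Cfsg.Agent.H27.F4Two
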