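import Cfsg.Agent.H27.F4Two.Data

/-!
`²F₄(2)`: pieces as conjugates of others, checked on words (part 2).
-/
set_option autoImplicit false
set_option maxRecDepth 100000
set_option Elab.async false

namespace Cfsg.Agent.H27.F4Two

open Cfsg.Lie Cfsg.Agent.H37

theorem conj_7 : same2 chevF4 (nW 0 ++ pw 3 ++ nW 0) (pw 7) = true := by
  decide +kernel

theorem conj_8 : same2 chevF4 (nW 0 ++ pw 6 ++ nW 0) (pw 8) = true := by
  decide +kernel

theorem conj_9 : same2 chevF4 (nW 1 ++ pw 8 ++ nW 1) (pw 9) = true := by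
  decide +kernel

theorem conj_10 : same2 chevF4 (nW 1 ++ pw 7 ++ nW 1) (pw 10) = true := by
  decide +kernel

theorem conj_11 : same2 chevF4 (nW 0 ++ pw 10 ++ nW 0) (pw 11) = true := by
  decide +kernel

end Cfsg.Agent.H27.F4Two
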