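import Cfsg.Agent.H37.Twist.ModP

/-!
Identities between integer words, checked on columns reduced modulo 2 at every letter.
-/
set_option autoImplicit false

namespace Cfsg.Agent.H27.F4Two

open Cfsg.Lie Cfsg.Agent.Chevalley Cfsg.Agent.H37

/-- The odd entries of a sparse vector. -/
def red (v : SVec) : SVec :=
  (nrm v).filterMap fun q => if q.2 % 2 == 0 then none else some (q.1, 1)

/-- A column of a word, reduced at every letter. -/
def col2 (D : ChevalleyDatum) : List (ℕ × ℤ) → ℕ → SVec
  | [], j => [(j, 1)]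
  | p :: w, j => red (applyCols (xCol D p.1 p.2) (col2 D w j))

/-- Equality of two words modulo 2 on reduced columns. -/
def same2 (D : ChevalleyDatum) (v w : List (ℕ × ℤ)) : Bool :=
  (v.all fun a => decide (a.1 < D.nroots)) && (w.all fun a => decide (a.1 < D.nroots)) &&
  (List.range (D.rank + D.nroots)).all fun j => col2 D v j == col2 D w j

/-- The pairing of a sparse vector with a function, modulo 2. -/
def pair2 (h : ℕ → ZMod 2) (v : SVec) : ZMod 2 := (v.map fun p => (p.2 : ZMod 2) * h p.1).sum

theorem pair2_cons (h : ℕ → ZMod 2) (p : ℕ × ℤ) (v : SVec) :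
    pair2 h (p :: v) = (p.2 : ZMod 2) * h p.1 + pair2 h v := by simp [pair2]

theorem pair2_append (h : ℕ → ZMod 2) (v w : SVec) :
    pair2 h (v ++ w) = pair2 h v + pair2 h w := by simp [pair2]

theorem pair2_ins (h : ℕ → ZMod 2) (p : ℕ × ℤ) : ∀ v : SVec,
    pair2 h (ins p v) = (p.2 : ZMod 2) * h p.1 + pair2 h v
  | [] => by
      unfold ins
      by_cases h0 : p.2 = 0 <;> simp [h0, pair2]
  | q :: v => by
      unfold ins
      by_cases h1 : p.1 < q.1
      · by_cases h0 : p.2 = 0 <;> simp [h1, h0, pair2_cons]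
      · by_cases h2 : p.1 = q.1
        · by_cases h0 : p.2 + q.2 = 0
          · simp only [h1, h2, h0, if_true, if_false, lt_irrefl, pair2_cons]
            rw [← add_assoc, ← add_mul, ← Int.cast_add, h0, Int.cast_zero, zero_mul, zero_add]
          · simp only [h1, h2, h0, if_true, if_false, lt_irrefl, pair2_cons]
            push_cast
            ring
        · simp only [h1, h2, if_false, pair2_cons, pair2_ins h p v]
          ring

theorem pair2_nrm (h : ℕ → ZMod 2) : ∀ v : SVec, pair2 h (nrm v) = pair2 h v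
  | [] => rfl
  | p :: v => by
      show pair2 h (ins p (nrm v)) = _
      rw [pair2_ins, pair2_nrm h v, pair2_cons]

theorem pair2_red (h : ℕ → ZMod 2) (v : SVec) : pair2 h (red v) = pair2 h v := by
  rw [red, ← pair2_nrm h v]
  induction nrm v with
  | nil => rfl
  | cons p u ih =>
      by_cases hp : p.2 % 2 = 0
      · rw [List.filterMap_cons_none (by simp [hp]), ih, pair2_cons,
          (ZMod.intCast_zmod_eq_zero_iff_dvd p.2 2).2 (Int.dvd_of_emod_eq_zero hp), zero_mul,
          zero_add]
      · rw [List.filterMap_cons_some (b := (p.1, (1 : ℤ))) (by simp [hp]), pair2_cons, pair2_cons, ih]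
        have : (p.2 : ZMod 2) = 1 := by
          rw [← ZMod.intCast_mod p.2 2, show p.2 % ((2 : ℕ) : ℤ) = 1 by omega]
          simp
        simp [this]

theorem pair2_apply (h : ℕ → ZMod 2) (cols : ℕ → SVec) : ∀ v : SVec,
    pair2 h (applyCols cols v) = pair2 (fun a => pair2 h (cols a)) v
  | [] => rfl
  | p :: v => by
      rw [applyCols, List.flatMap_cons, pair2_append, ← applyCols, pair2_apply h cols v,
        pair2_cons]
      congr 1
      induction cols p.1 with
      | nil => simp [pair2]
      | cons q u ih => simp only [List.map_cons, pair2_cons, ih]; push_cast; ring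

theorem pair2_col2 (D : ChevalleyDatum) : ∀ (w : List (ℕ × ℤ)) (h : ℕ → ZMod 2) (j : ℕ),
    pair2 h (col2 D w j) = pair2 h (wordCol D w j)
  | [], _, _ => rfl
  | p :: w, h, j => by
      rw [col2, wordCol, pair2_red, pair2_nrm, pair2_apply, pair2_apply, pair2_col2 D w]

theorem get_eq_pair2 (v : SVec) (i : ℕ) :
    (get v i : ZMod 2) = pair2 (fun a => if a = i then 1 else 0) v := by
  induction v with
  | nil => simp [pair2]
  | cons p v ih =>
      rw [get_cons, Int.cast_add, ih, pair2_cons]
      by_cases hp : p.1 = i <;> simp [hp]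

theorem wU_eq_of_same2 {D : ChevalleyDatum} (C : Chevalley.Cert D) {F : Type*} [Field F]
    [CharP F 2] {v w : List (ℕ × ℤ)} (h : same2 D v w = true) :
    C.wU F (Twist.castW F v) = C.wU F (Twist.castW F w) := by
  simp only [same2, Bool.and_eq_true, List.all_eq_true, decide_eq_true_eq, List.mem_range,
    beq_iff_eq] at h
  obtain ⟨⟨hv, hw⟩, hcol⟩ := h
  have hlt : ∀ {u : List (ℕ × ℤ)}, (∀ a ∈ u, a.1 < D.nroots) →
      ∀ a ∈ Twist.castW F u, a.1 < D.nroots := by
    intro u hu a ha
    obtain ⟨b, hb, rfl⟩ := List.mem_map.1 ha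
    exact hu b hb
  refine Units.ext ?_
  rw [Cert.coe_wU, Cert.coe_wU, ← C.wordR_eq F _ (hlt hv), ← C.wordR_eq F _ (hlt hw)]
  show wordR D F (v.map fun a => (a.1, Int.castRingHom F a.2))
    = wordR D F (w.map fun a => (a.1, Int.castRingHom F a.2))
  rw [← wordR_map D (Int.castRingHom F), ← wordR_map D (Int.castRingHom F)]
  ext row col
  simp only [Matrix.map_apply, eq_intCast]
  rw [wordR_eq_get C.targetsOK v hv, wordR_eq_get C.targetsOK w hw, ← sub_eq_zero,
    ← Int.cast_sub, CharP.intCast_eq_zero_iff F 2, ← ZMod.intCast_zmod_eq_zero_iff_dvd,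
    Int.cast_sub, sub_eq_zero, get_eq_pair2, get_eq_pair2, ← pair2_col2, ← pair2_col2,
    hcol (idxNat col) (idxNat_lt col)]

end Cfsg.Agent.H27.F4Two
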