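import Cfsg.Agent.H37.Twist.F4
import Cfsg.Agent.H27.F4Two.Mod2

/-!
`²F₄(2)`: the twelve pieces of its unipotent subgroup as words, and their matrices modulo 2.
-/
set_option autoImplicit false
set_option maxRecDepth 100000
set_option Elab.async false

namespace Cfsg.Agent.H27.F4Two

open Cfsg.Lie Cfsg.Agent.H37 Cfsg.Agent.Chevalley

/-- The root supports of the twelve pieces. -/
def supp : List (List ℕ) := [[24, 33], [25, 27, 30], [26, 34, 42], [28, 30], [29, 41, 44], [31, 35, 46], [32, 37], [36, 42], [38, 43], [39, 45], [40, 46], [44, 47]]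

/-- The word of a piece. -/
def pw (i : ℕ) : List (ℕ × ℤ) := (supp.getD i []).map fun r => (r, 1)

/-- Words of five fixed generators. -/
def gens : List (List (ℕ × ℤ)) :=
  [[(33, 1), (24, 1)], [(14, 1), (23, 1)], [(27, 1), (25, 1), (28, 1), (30, 0)],
    [(20, 0), (22, 0), (19, 1), (17, 1)], [(27, 1), (25, 1), (28, 2), (30, 1)]]

/-- The word of a product of generators. -/
def flat (l : List ℕ) : List (ℕ × ℤ) := (l.map fun k => gens.getD k []).flatten

/-- Short words of two monomial elements. -/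
def nW : ℕ → List (ℕ × ℤ)
  | 0 => [(33, 1), (24, 1), (14, 1), (23, 1), (33, 1), (24, 1)]
  | _ => [(27, 1), (25, 1), (28, 1), (19, 1), (17, 1), (27, 1), (25, 1), (30, 1)]

/-- The entries of the pieces outside the diagonal, by rows. -/
def offDiag : List (List (ℕ × List ℕ)) :=
  [[(0, [18]), (3, [27]), (5, [4]), (10, [9]), (11, [7]), (12, [8]), (13, [9]), (14, [9, 10, 13]), (16, [15]), (19, [8]), (20, [9]), (21, [9, 10, 20]), (22, [15]), (23, [15, 16, 22]), (24, [17]), (26, [25]), (28, [2, 27]), (30, [29]), (33, [32]), (35, [34]), (37, [1, 18]), (38, [31]), (39, [32]), (40, [32, 33, 39]), (41, [34]), (42, [34, 35, 41]), (43, [36]), (45, [34]), (46, [34, 35, 45]), (47, [36]), (48, [44]), (51, [50])],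
   [(1, [21, 24]), (2, [26]), (6, [5]), (7, [6]), (8, [5, 6]), (9, [5, 8]), (12, [11]), (13, [11, 12]), (15, [11, 13]), (16, [14]), (17, [14, 16]), (18, [14, 17]), (20, [19]), (22, [20]), (23, [21]), (24, [21, 23]), (25, [19, 20]), (26, [21]), (27, [19, 25]), (29, [3, 21, 26]), (30, [28]), (31, [0, 2, 21, 23, 24]), (32, [0, 2, 21, 23, 29, 31]), (33, [30]), (34, [3, 21, 29]), (35, [28, 30]), (36, [28, 35]), (38, [37]), (39, [37, 38]), (41, [37, 39]), (42, [40]), (43, [40, 42]), (44, [40, 43]), (47, [46]), (48, [47]), (49, [46, 47]), (50, [46, 49])],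
   [(0, [9, 17]), (1, [9, 17]), (2, [25]), (3, [25]), (6, [4]), (10, [8]), (11, [6]), (12, [7]), (14, [7, 12]), (15, [9]), (16, [10]), (17, [9, 15]), (19, [4, 6]), (21, [4, 19]), (22, [13]), (23, [7, 14]), (24, [13, 22]), (25, [9]), (26, [8, 10]), (28, [8, 26]), (29, [27]), (30, [2, 3, 9, 25]), (31, [18]), (33, [18, 31]), (36, [34]), (37, [13, 24]), (38, [0, 1, 2, 9, 15, 17]), (39, [29]), (40, [0, 1, 2, 9, 15, 30, 38]), (41, [32]), (42, [18, 33]), (43, [32, 41]), (44, [36]), (45, [27, 29]), (46, [2, 3, 9, 30]), (47, [27, 45]), (48, [32, 43]), (49, [34, 36]), (51, [34, 49])],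
   [(1, [21, 23]), (2, [21]), (7, [5]), (8, [5]), (9, [5, 6]), (13, [11]), (15, [11, 12]), (17, [14]), (18, [14, 16]), (22, [19]), (24, [21]), (25, [19]), (27, [19, 20]), (29, [21]), (31, [23, 26]), (32, [0, 2, 3, 21, 23, 24]), (33, [28]), (34, [3, 21, 26]), (35, [28]), (36, [28, 30]), (39, [37]), (41, [37, 38]), (43, [40]), (44, [40, 42]), (48, [46]), (49, [46]), (50, [46, 47])],
   [(0, [10]), (1, [4, 10, 22]), (2, [10]), (7, [4]), (10, [4]), (14, [11]), (16, [12]), (17, [13]), (18, [15]), (19, [5]), (20, [6]), (22, [4, 7]), (23, [19]), (24, [20]), (25, [8]), (27, [9]), (28, [5, 19]), (30, [6, 20]), (31, [25]), (32, [27]), (33, [0, 3, 4, 7, 22]), (35, [8, 25]), (36, [9, 27]), (37, [11, 14]), (38, [12, 16]), (39, [13, 17]), (40, [11, 37]), (41, [15, 18]), (42, [12, 38]), (43, [13, 39]), (44, [15, 41]), (45, [3, 4, 10]), (46, [5, 28]), (47, [6, 30]), (48, [0, 3, 4, 7, 33, 45]), (49, [8, 35]), (50, [9, 36]), (51, [3, 4, 45])],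
   [(0, [5, 16]), (1, [5, 16, 20]), (2, [20]), (3, [20]), (8, [4]), (10, [6]), (11, [5]), (13, [7]), (15, [8]), (16, [5, 11]), (17, [10]), (18, [7, 13]), (20, [5]), (22, [12]), (24, [14]), (26, [19]), (27, [4, 8]), (28, [21]), (29, [6, 10]), (31, [12, 22]), (32, [7, 18]), (33, [14, 24]), (34, [4, 27]), (35, [2, 3, 5, 20]), (36, [6, 29]), (37, [23]), (38, [26]), (39, [0, 1, 2, 3, 5, 11, 16]), (40, [28]), (41, [12, 31]), (42, [23, 37]), (43, [14, 33]), (44, [0, 1, 2, 3, 5, 11, 35, 39]), (45, [19, 26]), (47, [21, 28]), (48, [23, 42]), (49, [19, 45]), (50, [2, 3, 5, 35]), (51, [21, 47])],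
   [(0, [14]), (1, [19]), (3, [19]), (9, [4]), (10, [5]), (12, [5]), (13, [6]), (15, [7]), (17, [11]), (18, [5, 10, 12]), (22, [11]), (25, [5]), (27, [6]), (29, [20]), (30, [21]), (31, [16]), (32, [11, 17, 22]), (33, [23]), (34, [5, 10, 25]), (35, [26]), (36, [2, 19]), (37, [21]), (38, [23]), (39, [24]), (41, [1, 3, 14]), (42, [28]), (43, [21, 30, 37]), (44, [23, 33, 38]), (45, [21]), (48, [40]), (49, [28]), (50, [21, 30, 45]), (51, [46])],
   [(0, [9, 15]), (1, [9, 15]), (2, [9]), (3, [9]), (11, [4]), (14, [7]), (16, [8]), (17, [9]), (19, [4]), (21, [4, 6]), (23, [7, 12]), (24, [13]), (26, [8]), (28, [8, 10]), (30, [9]), (33, [18]), (37, [13, 22]), (38, [15, 25]), (39, [27]), (40, [0, 1, 3, 9, 15, 17]), (42, [18, 31]), (43, [32]), (44, [34]), (45, [27]), (46, [2, 3, 9, 25]), (47, [27, 29]), (48, [32, 41]), (49, [34]), (51, [34, 36])],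
   [(0, [8, 13]), (1, [8]), (3, [8]), (12, [4]), (14, [6]), (16, [7]), (18, [9]), (20, [4]), (21, [5]), (23, [11]), (24, [7]), (26, [4]), (28, [6]), (29, [9]), (30, [10]), (31, [15]), (33, [17]), (35, [9]), (37, [4, 12, 20]), (38, [22]), (39, [15]), (40, [7, 16, 24]), (41, [27]), (42, [1, 2, 3, 13]), (43, [9, 18, 29]), (44, [32]), (45, [25]), (46, [4, 20, 26]), (47, [2, 8]), (48, [15, 31, 39]), (49, [27]), (50, [34]), (51, [9, 29, 35])],
   [(0, [6, 12]), (3, [6]), (13, [4]), (14, [5]), (17, [7]), (18, [8]), (24, [11]), (25, [4]), (26, [5]), (29, [4]), (30, [5]), (31, [7]), (32, [15]), (33, [16]), (34, [9]), (35, [10]), (36, [8]), (37, [19]), (38, [11]), (39, [22]), (40, [23]), (41, [4, 13, 25]), (42, [5, 14, 26]), (43, [1, 2, 12]), (44, [7, 17, 31]), (45, [20]), (46, [21]), (47, [19]), (48, [11, 24, 38]), (49, [2, 6]), (50, [4, 25, 29]), (51, [5, 26, 30])],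
   [(0, [5, 11]), (1, [11]), (2, [5]), (3, [5]), (15, [4]), (16, [5]), (17, [6]), (18, [7]), (27, [4]), (29, [6]), (31, [12]), (32, [7, 13]), (33, [14]), (34, [4, 8]), (35, [5]), (36, [6, 10]), (38, [19]), (39, [11, 20]), (40, [21]), (41, [12, 22]), (42, [23]), (43, [14, 24]), (44, [0, 1, 5, 11, 16]), (45, [19]), (47, [21]), (48, [23, 37]), (49, [19, 26]), (50, [2, 3, 5, 20]), (51, [21, 28])],
   [(0, [4]), (1, [7]), (2, [4]), (22, [4]), (23, [5]), (24, [6]), (28, [5]), (30, [6]), (31, [8]), (32, [9]), (33, [7, 10]), (35, [8]), (36, [9]), (37, [11]), (38, [12]), (39, [13]), (40, [11, 14]), (41, [15]), (42, [12, 16]), (43, [13, 17]), (44, [15, 18]), (45, [4]), (46, [5, 19]), (47, [6, 20]), (48, [0, 4, 7, 22]), (49, [8, 25]), (50, [9, 27]), (51, [3, 4, 10])]]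

/-- The columns with an entry in a given row of a piece. -/
def nbr (i r : ℕ) : List ℕ :=
  (((offDiag.getD i []).find? fun p => p.1 == r).map Prod.snd).getD []

theorem supp_lt : (List.range 12).all (fun i =>
    (pw i).all fun p => decide (p.1 < chevF4.nroots)) = true := by decide +kernel

theorem n_gens : same2 chevF4 (flat [0, 1, 0]) (nW 0) = true ∧
    same2 chevF4 (flat [2, 3, 4]) (nW 1) = true := by decide +kernel

theorem base_ok : same2 chevF4 (flat [0]) (pw 0) = true ∧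
    same2 chevF4 (flat [2]) (pw 1) = true ∧
    same2 chevF4 (pw 1 ++ pw 1) (pw 3) = true := by decide +kernel

theorem n0_inv : same2 chevF4 (nW 0 ++ nW 0) [] = true := by decide +kernel

theorem n1_inv : same2 chevF4 (nW 1 ++ nW 1) [] = true := by decide +kernel

theorem comm_ok : same2 chevF4 (pw 1 ++ pw 5) (pw 6 ++ pw 5 ++ pw 1) = true ∧
    same2 chevF4 (pw 0 ++ pw 4) (pw 7 ++ pw 4 ++ pw 0) = true := by decide +kernel

theorem entries_ok : (List.range 12).all (fun i => (List.range 52).all fun j =>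
    Isog.Data.divB 2 (wordCol chevF4 (pw i) j ++ Isog.Data.negV ((j, 1) ::
      ((List.range 52).flatMap fun r => ((nbr i r).filter (· == j)).map fun _ => (r, (1 : ℤ))))))
      = true := by decide +kernel

theorem nbr_lt : (List.range 12).all (fun i => (List.range 52).all fun r =>
    (nbr i r).all fun c => decide (c < 52)) = true := by decide +kernel

end Cfsg.Agent.H27.F4Two
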