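import Cfsg.Agent.H27.F4Two.Data

/-!
`²F₄(2)`: all products of pieces applied to a coordinate vector at once, one bit for each product.
-/
set_option autoImplicit false
set_option maxRecDepth 100000
set_option Elab.async false

namespace Cfsg.Agent.H27.F4Two

/-- The bits with period `2 ^ (i + 1)` selecting the products containing piece `i`. -/
def mask (i : ℕ) : ℕ :=
  (2 ^ (2 ^ i) - 1) * 2 ^ (2 ^ i) * ((2 ^ 4096 - 1) / (2 ^ (2 ^ (i + 1)) - 1))

/-- One step. -/
def step (i : ℕ) (s : List ℕ) : List ℕ :=
  (List.range 52).map fun r => s.getD r 0 ^^^
    (mask i &&& (nbr i r).foldr (fun c a => s.getD c 0 ^^^ a) 0)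

/-- All steps. -/
def run (s : List ℕ) : List ℕ := (List.range 12).foldr step s

/-- The coordinate vector of index 6. -/
def start : List ℕ := (List.range 52).map fun r => if r = 6 then 2 ^ 4096 - 1 else 0

/-- Pieces outside the commutator subgroup. -/
def isZ (i : ℕ) : Bool := [1, 2, 4, 5].contains i

/-- The parity of a product. -/
def par (b : ℕ) : Bool :=
  (List.range 12).foldr (fun i a => (b.testBit i && isZ i) ^^ a) false

/-- The products of odd parity. -/
def oddMask : ℕ := (List.range 12).foldr (fun i a => (if isZ i then mask i else 0) ^^^ a) 0

/-- The products moving the vector when applied twice. -/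
def moved : ℕ :=
  (List.range 52).foldr (fun r a => ((run (run start)).getD r 0 ^^^ start.getD r 0) ||| a) 0

theorem mask_low : (List.range 12).all (fun i => (List.range 4096).all fun b =>
    (mask i).testBit b == b.testBit i) = true := by decide +kernel

theorem odd_moved : (oddMask &&& moved == oddMask) = true := by decide +kernel

end Cfsg.Agent.H27.F4Two
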