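import Cfsg.Agent.H27.F4Two.ConjA
import Cfsg.Agent.H27.F4Two.ConjB
import Cfsg.Agent.H27.F4Two.Sliced

/-!
`²F₄(2)`: every element of the unipotent subgroup is a product of pieces, and those outside the
commutator subgroup are not involutions.
-/
set_option autoImplicit false
set_option maxRecDepth 100000

namespace Cfsg.Agent.H27.F4Two

open Cfsg.Lie Cfsg.Agent.H37 Cfsg.Agent.H37.RootSys Cfsg.Agent.Chevalley
open Cfsg.Agent.H37.Twist

/-- The field with two elements. -/
abbrev K := ZMod 2

/-- The twisted group. -/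
abbrev G := ↥(twistedF4 K 1)

/-- The root data. -/
abbrev Q : Chev.Data chevF4 K := Chev.dataF4 K

/-- An integer word as an element of the Chevalley group. -/
noncomputable def wz (w : List (ℕ × ℤ)) : ↥(chevF4.group K) := wG Q (castW K w)

theorem wz_append (v w : List (ℕ × ℤ)) : wz (v ++ w) = wz v * wz w := by
  simp [wz, castW, wG_append]

theorem wz_eq {v w : List (ℕ × ℤ)} (h : same2 chevF4 v w = true) : wz v = wz w :=
  Subtype.ext (by unfold wz; rw [coe_wG, coe_wG]; exact wU_eq_of_same2 Q.K h)

theorem wz_nil : wz [] = 1 := by simp [wz, castW, wG]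

theorem gens_mem : ∀ k, k < 5 →
    ((wz (gens.getD k []) : ↥(chevF4.group K)) : GL chevF4.Idx K) ∈ twistedF4 K 1 := by
  intro k hk
  have h2 : (2 : K) = 0 := rfl
  interval_cases k
  · exact wG_mem (Or.inl ⟨1, Or.inl (by simp [gens, castW, f4PairWord, f4p1, f4p4])⟩)
  · exact wG_mem (Or.inl ⟨1, Or.inr (by simp [gens, castW, f4PairWord, f4m1, f4m4])⟩)
  · exact wG_mem (Or.inr ⟨1, 0, Or.inl (by
      simp [gens, castW, b2ClassWord, f4a, f4b, f4ab, f4aab])⟩)
  · exact wG_mem (Or.inr ⟨0, 1, Or.inr (by
      simp [gens, castW, b2ClassWord, f4ma, f4mb, f4mab, f4maab])⟩)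
  · exact wG_mem (Or.inr ⟨1, 1, Or.inl (by
      simp [gens, castW, b2ClassWord, f4a, f4b, f4ab, f4aab, one_add_one_eq_two, h2])⟩)

theorem wz_def (w : List (ℕ × ℤ)) : wz w = wG Q (castW K w) := rfl

attribute [irreducible] wz

theorem flat_mem : ∀ l : List ℕ, (∀ k ∈ l, k < 5) →
    ((wz (flat l) : ↥(chevF4.group K)) : GL chevF4.Idx K) ∈ twistedF4 K 1
  | [], _ => by
      rw [show flat [] = [] from rfl, wz_nil, OneMemClass.coe_one]
      exact one_mem _
  | k :: l, h => by
      rw [show flat (k :: l) = gens.getD k [] ++ flat l from rfl, wz_append, Subgroup.coe_mul]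
      exact mul_mem (gens_mem k (h k (by simp))) (flat_mem l fun a ha => h a (by simp [ha]))

theorem n_mem (k : ℕ) :
    ((wz (nW k) : ↥(chevF4.group K)) : GL chevF4.Idx K) ∈ twistedF4 K 1 := by
  rcases k with _ | k
  · rw [← wz_eq n_gens.1]; exact flat_mem _ (by decide)
  · rw [show nW (k + 1) = nW 1 from rfl, ← wz_eq n_gens.2]; exact flat_mem _ (by decide)

theorem conj_mem {k i j : ℕ}
    (h : same2 chevF4 (nW k ++ pw j ++ nW k) (pw i) = true)
    (hj : ((wz (pw j) : ↥(chevF4.group K)) : GL chevF4.Idx K) ∈ twistedF4 K 1) :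
    ((wz (pw i) : ↥(chevF4.group K)) : GL chevF4.Idx K) ∈ twistedF4 K 1 := by
  rw [← wz_eq h, wz_append, wz_append, Subgroup.coe_mul, Subgroup.coe_mul]
  exact mul_mem (mul_mem (n_mem k) hj) (n_mem k)

theorem piece_mem (i : ℕ) :
    ((wz (pw i) : ↥(chevF4.group K)) : GL chevF4.Idx K) ∈ twistedF4 K 1 := by
  have h0 : ((wz (pw 0) : ↥(chevF4.group K)) : GL chevF4.Idx K) ∈ twistedF4 K 1 := by
    rw [← wz_eq base_ok.1]; exact flat_mem _ (by decide)
  have h1 : ((wz (pw 1) : ↥(chevF4.group K)) : GL chevF4.Idx K) ∈ twistedF4 K 1 := by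
    rw [← wz_eq base_ok.2.1]; exact flat_mem _ (by decide)
  have h3 : ((wz (pw 3) : ↥(chevF4.group K)) : GL chevF4.Idx K) ∈ twistedF4 K 1 := by
    rw [← wz_eq base_ok.2.2, wz_append, Subgroup.coe_mul]; exact mul_mem h1 h1
  have h2 := conj_mem conj_2 h1
  have h5 := conj_mem conj_5 h2
  have h4 := conj_mem conj_4 h5
  have h6 := conj_mem conj_6 h0
  have h7 := conj_mem conj_7 h3
  have h8 := conj_mem conj_8 h6
  have h10 := conj_mem conj_10 h7
  have h9 := conj_mem conj_9 h8
  have h11 := conj_mem conj_11 h10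
  rcases Nat.lt_or_ge i 12 with hi | hi
  · interval_cases i <;> assumption
  · rw [show pw i = [] by simp [pw, supp, List.getD, List.getElem?_eq_none, hi], wz_nil,
      OneMemClass.coe_one]
    exact one_mem _

/-- A piece in the twisted group. -/
noncomputable def piece (i : ℕ) : G := ⟨_, piece_mem i⟩

/-- A monomial element in the twisted group. -/
noncomputable def nT (k : ℕ) : G := ⟨_, n_mem k⟩

/-- The inclusion into the Chevalley group. -/
noncomputable def incl : G →* ↥(chevF4.group K) :=
  Subgroup.inclusion (genSubgroup_le_group (Q := Q) _)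

theorem incl_inj : Function.Injective incl := Subgroup.inclusion_injective _

theorem incl_piece (i : ℕ) : incl (piece i) = wz (pw i) := rfl

theorem incl_nT (k : ℕ) : incl (nT k) = wz (nW k) := rfl

theorem coe_incl (g : G) : ((incl g : ↥(chevF4.group K)) : GL chevF4.Idx K) = (g : GL chevF4.Idx K) := rfl

attribute [irreducible] piece nT incl

/-- The factor of index `i` of a product. -/
noncomputable def sel (b i : ℕ) : G := if b.testBit i then piece i else 1

/-- The product of pieces with the given bits. -/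
noncomputable def prodP (b : ℕ) : G := ((List.range 12).map (sel b)).prod

/-! ### Parity -/

/-- The projection on the abelianisation. -/
noncomputable def ab : G →* Abelianization G := Abelianization.of

/-- The class of the piece of index 1. -/
noncomputable def za : Abelianization G := ab (piece 1)

theorem nT_sq (k : ℕ) : nT k * nT k = 1 := by
  refine incl_inj ?_
  rw [map_mul, map_one, incl_nT, ← wz_append, ← wz_nil]
  rcases k with _ | k
  · exact wz_eq n0_inv
  · exact wz_eq n1_inv

theorem ab_conj {k i j : ℕ}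
    (h : same2 chevF4 (nW k ++ pw j ++ nW k) (pw i) = true) :
    ab (piece i) = ab (piece j) := by
  have e : piece i = nT k * piece j * nT k := by
    refine incl_inj ?_
    rw [map_mul, map_mul, incl_nT, incl_piece, incl_piece, ← wz_append, ← wz_append, wz_eq h]
  rw [e, map_mul, map_mul, mul_right_comm, ← map_mul, nT_sq, map_one, one_mul]

theorem ab_comm {a b c : ℕ}
    (h : same2 chevF4 (pw a ++ pw b) (pw c ++ pw b ++ pw a) = true) :
    ab (piece c) = 1 := by
  have e : piece a * piece b = piece c * piece b * piece a := by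
    refine incl_inj ?_
    simp only [map_mul, incl_piece, ← wz_append]
    exact wz_eq h
  have e' := congrArg ab e
  simp only [map_mul] at e'
  rw [mul_assoc, mul_comm (ab (piece b))] at e'
  exact right_eq_mul.1 e'

theorem za_sq : za * za = 1 := by
  rw [za, ← map_mul, ← ab_comm comm_ok.2, ab_conj conj_7]
  refine congrArg ab (incl_inj ?_)
  rw [map_mul, incl_piece, incl_piece, ← wz_append, wz_eq base_ok.2.2]

theorem ab_piece {i : ℕ} (hi : i < 12) : ab (piece i) = if isZ i then za else 1 := by
  have h6 := ab_comm comm_ok.1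
  have h7 := ab_comm comm_ok.2
  have h0 : ab (piece 0) = 1 := (ab_conj conj_6).symm.trans h6
  have h3 : ab (piece 3) = 1 := (ab_conj conj_7).symm.trans h7
  have h2 : ab (piece 2) = za := ab_conj conj_2
  have h5 : ab (piece 5) = za := (ab_conj conj_5).trans h2
  have h4 : ab (piece 4) = za := (ab_conj conj_4).trans h5
  have h8 : ab (piece 8) = 1 := (ab_conj conj_8).trans h6
  have h9 : ab (piece 9) = 1 := (ab_conj conj_9).trans h8
  have h10 : ab (piece 10) = 1 := (ab_conj conj_10).trans h7
  have h11 : ab (piece 11) = 1 := (ab_conj conj_11).trans h10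
  interval_cases i <;> first | exact rfl | assumption

theorem ab_prod (b : ℕ) : ∀ L : List ℕ, (∀ i ∈ L, i < 12) → ab (L.map (sel b)).prod =
    if L.foldr (fun i a => (b.testBit i && isZ i) ^^ a) false then za else 1
  | [], _ => by simp
  | i :: L, h => by
      rw [List.map_cons, List.prod_cons, map_mul, ab_prod b L fun a ha => h a (by simp [ha]),
        List.foldr_cons, sel, apply_ite ab, map_one, ab_piece (h i (by simp))]
      cases b.testBit i <;> cases isZ i <;>
        cases L.foldr (fun i a => (b.testBit i && isZ i) ^^ a) false <;> simp [za_sq]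

theorem prodP_mem_commutator {b : ℕ} (hb : par b = false) : prodP b ∈ commutator G := by
  rw [← Abelianization.ker_of, MonoidHom.mem_ker]
  show ab (prodP b) = 1
  rw [prodP, ab_prod b _ fun i hi => List.mem_range.1 hi]
  simp [show (List.range 12).foldr (fun i a => (b.testBit i && isZ i) ^^ a) false = false from hb]

/-! ### Matrices -/

/-- Functions of a coordinate number as vectors. -/
def vec (f : ℕ → K) : chevF4.Idx → K := fun x => f (idxNat x)

/-- A truth value in the field. -/
def bv (x : Bool) : K := if x then 1 else 0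

theorem bv_xor (x y : Bool) : bv (x ^^ y) = bv x + bv y := by
  cases x <;> cases y <;> decide

theorem cnt_eq (i j r : ℕ) (hr : r < 52) :
    (get ((List.range 52).flatMap fun r' => ((nbr i r').filter (· == j)).map fun _ => (r', (1 : ℤ)))
      r : ℤ) = ((nbr i r).filter (· == j)).length := by
  have hmap : ∀ (l : List ℕ) (r' : ℕ), get (l.map fun _ => (r', (1 : ℤ))) r
      = if r' = r then (l.length : ℤ) else 0 := by
    intro l r'
    induction l with
    | nil => simp
    | cons a l ih =>
        rw [List.map_cons, get_cons, ih]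
        by_cases h : r' = r
        · simp [h]; ring
        · simp [h]
  have key : ∀ L : List ℕ, L.Nodup →
      get (L.flatMap fun r' => ((nbr i r').filter (· == j)).map fun _ => (r', (1 : ℤ))) r
        = if r ∈ L then (((nbr i r).filter (· == j)).length : ℤ) else 0 := by
    intro L hL
    induction L with
    | nil => simp
    | cons a L ih =>
        rw [List.flatMap_cons, get_append, hmap, ih (List.nodup_cons.1 hL).2]
        by_cases h : a = r
        · subst h; simp [(List.nodup_cons.1 hL).1]
        · simp [h, Ne.symm h]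
  rw [key _ List.nodup_range, if_pos (List.mem_range.2 hr)]

theorem piece_entry {i : ℕ} (hi : i < 12) (row col : chevF4.Idx) :
    ((incl (piece i) : GL chevF4.Idx K) : Matrix chevF4.Idx chevF4.Idx K) row col
      = (if idxNat col = idxNat row then 1 else 0) +
        (((nbr i (idxNat row)).filter (· == idxNat col)).length : K) := by
  have hlt : ∀ p ∈ pw i, p.1 < chevF4.nroots := by
    simpa using List.all_eq_true.1 supp_lt i (List.mem_range.2 hi)
  rw [incl_piece, wz_def, coe_wG, Cert.coe_wU, ← Q.K.wordR_eq K _ (by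
    intro a ha
    obtain ⟨p, hp, rfl⟩ := List.mem_map.1 ha
    exact hlt p hp)]
  show wordR chevF4 K ((pw i).map fun a => (a.1, Int.castRingHom K a.2)) row col = _
  rw [← wordR_map chevF4 (Int.castRingHom K), Matrix.map_apply,
    wordR_eq_get Q.K.targetsOK (pw i) hlt]
  have h := Isog.dvd_get (List.all_eq_true.1 (List.all_eq_true.1 entries_ok i (List.mem_range.2 hi))
    (idxNat col) (List.mem_range.2 (idxNat_lt (D := chevF4) col))) (idxNat row)
  rw [get_append, Isog.Data.negV, get_scale, get_cons,
    cnt_eq i _ _ (idxNat_lt (D := chevF4) row)] at h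
  have h' := (CharP.intCast_eq_zero_iff K 2 _).2 h
  push_cast at h'
  rw [eq_intCast]
  linear_combination h'

theorem mulVec_of_entries {D : ChevalleyDatum} {F : Type*} [Field F] (M : Matrix D.Idx D.Idx F)
    (nb : ℕ → List ℕ) (hnb : ∀ r, r < D.rank + D.nroots → ∀ c ∈ nb r, c < D.rank + D.nroots)
    (h : ∀ row col, M row col = (if idxNat col = idxNat row then 1 else 0) +
      (((nb (idxNat row)).filter (· == idxNat col)).length : F)) (f : ℕ → F) (row : D.Idx) :
    M.mulVec (fun x => f (idxNat x)) row = f (idxNat row) + ((nb (idxNat row)).map f).sum := by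
  have hs : ∀ c : ℕ, c < D.rank + D.nroots →
      ∑ col : D.Idx, (if c = idxNat col then f (idxNat col) else 0) = f c := by
    intro c hc
    obtain ⟨x, rfl⟩ := exists_idxNat (D := D) hc
    simp [idxNat_inj.eq_iff]
  have hsum : ∀ l : List ℕ, (∀ c ∈ l, c < D.rank + D.nroots) →
      ∑ col : D.Idx, ((l.filter (· == idxNat col)).length : F) * f (idxNat col)
        = (l.map f).sum := by
    intro l hl
    induction l with
    | nil => simp
    | cons c l ih =>
        rw [List.map_cons, List.sum_cons, ← ih fun a ha => hl a (by simp [ha]),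
          ← hs c (hl c (by simp)), ← Finset.sum_add_distrib]
        refine Finset.sum_congr rfl fun col _ => ?_
        by_cases h : c = idxNat col
        · simp [h]; ring
        · simp [h]
  show ∑ col, _ * f (idxNat col) = f (idxNat row) + _
  simp only [h, add_mul, Finset.sum_add_distrib]
  rw [hsum _ (hnb _ (idxNat_lt row))]
  congr 1
  simp [idxNat_inj.eq_iff]

theorem nbr_spec {i : ℕ} (hi : i < 12) :
    ∀ r, r < chevF4.rank + chevF4.nroots → ∀ c ∈ nbr i r, c < chevF4.rank + chevF4.nroots := by
  intro r hr c hc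
  exact of_decide_eq_true (List.all_eq_true.1 (List.all_eq_true.1
    (List.all_eq_true.1 nbr_lt i (List.mem_range.2 hi)) r (List.mem_range.2 hr)) c hc)

theorem mulVec_piece {i : ℕ} (hi : i < 12) (f : ℕ → K) :
    ((incl (piece i) : GL chevF4.Idx K) : Matrix chevF4.Idx chevF4.Idx K).mulVec (vec f)
      = vec fun r => f r + ((nbr i r).map f).sum :=
  funext (mulVec_of_entries _ (nbr i) (nbr_spec hi) (piece_entry hi) f)

/-- The slices read at one product. -/
def sval (b : ℕ) (s : List ℕ) (r : ℕ) : K := bv ((s.getD r 0).testBit b)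

theorem vec_congr {f g : ℕ → K} (h : ∀ r, r < 52 → f r = g r) : vec f = vec g :=
  funext fun x => h _ (idxNat_lt (D := chevF4) x)

theorem fold_sum (b : ℕ) (s : List ℕ) : ∀ l : List ℕ,
    bv ((l.foldr (fun c a => s.getD c 0 ^^^ a) 0).testBit b) = (l.map (sval b s)).sum
  | [] => by simp [bv]
  | c :: l => by
      rw [List.foldr_cons, Nat.testBit_xor, bv_xor, fold_sum b s l, List.map_cons, List.sum_cons]
      rfl

theorem mask_bit {i b : ℕ} (hi : i < 12) (hb : b < 4096) :
    (mask i).testBit b = b.testBit i := by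
  simpa using List.all_eq_true.1 (List.all_eq_true.1 mask_low i (List.mem_range.2 hi)) b
    (List.mem_range.2 hb)

theorem mulVec_sel {i b : ℕ} (hi : i < 12) (hb : b < 4096) (s : List ℕ) :
    ((incl (sel b i) : GL chevF4.Idx K) : Matrix chevF4.Idx chevF4.Idx K).mulVec (vec (sval b s))
      = vec (sval b (step i s)) := by
  have e : ∀ r, r < 52 → sval b (step i s) r = sval b s r +
      if b.testBit i then ((nbr i r).map (sval b s)).sum else 0 := by
    intro r hr
    rw [sval, step, List.getD_eq_getElem _ _ (by simpa using hr), List.getElem_map,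
      List.getElem_range, Nat.testBit_xor, bv_xor, Nat.testBit_and, mask_bit hi hb]
    cases b.testBit i
    · rfl
    · rw [Bool.true_and, fold_sum]
      rfl
  rw [vec_congr e]
  unfold sel
  cases b.testBit i
  · simp
  · simp only [if_true]
    exact mulVec_piece hi _

theorem mulVec_prod {b : ℕ} (hb : b < 4096) (s : List ℕ) : ∀ L : List ℕ, (∀ i ∈ L, i < 12) →
    ((incl (L.map (sel b)).prod : GL chevF4.Idx K) :
      Matrix chevF4.Idx chevF4.Idx K).mulVec (vec (sval b s)) = vec (sval b (L.foldr step s))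
  | [], _ => by simp
  | i :: L, h => by
      rw [List.map_cons, List.prod_cons, map_mul, Subgroup.coe_mul, Units.val_mul,
        ← Matrix.mulVec_mulVec, mulVec_prod hb s L fun a ha => h a (by simp [ha]),
        mulVec_sel (h i (by simp)) hb]
      rfl

theorem oddMask_bit {b : ℕ} (hb : b < 4096) : oddMask.testBit b = par b := by
  have key : ∀ L : List ℕ, (∀ i ∈ L, i < 12) →
      (L.foldr (fun i a => (if isZ i then mask i else 0) ^^^ a) 0).testBit b
        = L.foldr (fun i a => (b.testBit i && isZ i) ^^ a) false := by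
    intro L h
    induction L with
    | nil => simp
    | cons i L ih =>
        rw [List.foldr_cons, List.foldr_cons, Nat.testBit_xor,
          ih fun a ha => h a (by simp [ha]), ← mask_bit (h i (by simp)) hb]
        cases isZ i <;> simp
  exact key _ fun i hi => List.mem_range.1 hi

theorem or_bit (b : ℕ) (f : ℕ → ℕ) : ∀ L : List ℕ,
    (L.foldr (fun r a => f r ||| a) 0).testBit b = true → ∃ r ∈ L, (f r).testBit b = true
  | [], h => by simp at h
  | r :: L, h => by
      rw [List.foldr_cons, Nat.testBit_lor, Bool.or_eq_true] at h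
      rcases h with h | h
      · exact ⟨r, by simp, h⟩
      · obtain ⟨r', hr', e⟩ := or_bit b f L h
        exact ⟨r', by simp [hr'], e⟩

theorem prodP_sq_ne {b : ℕ} (hb : b < 4096) (hp : par b = true) : prodP b * prodP b ≠ 1 := by
  intro h
  set m := ((incl (prodP b) : GL chevF4.Idx K) : Matrix chevF4.Idx chevF4.Idx K) with hm
  have hrun : ∀ s, m.mulVec (vec (sval b s)) = vec (sval b (run s)) := fun s =>
    mulVec_prod hb s _ fun i hi => List.mem_range.1 hi
  have e : m * m = 1 := by
    rw [hm, ← Units.val_mul, ← Subgroup.coe_mul, ← map_mul, h, map_one, OneMemClass.coe_one,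
      Units.val_one]
  have e2 : vec (sval b (run (run start))) = vec (sval b start) := by
    rw [← hrun, ← hrun, Matrix.mulVec_mulVec, e, Matrix.one_mulVec]
  have hmv : moved.testBit b = true := by
    have := congrArg (fun n => Nat.testBit n b) (eq_of_beq odd_moved)
    simp only [Nat.testBit_and, oddMask_bit hb, hp, Bool.true_and] at this
    exact this
  obtain ⟨r, hr, hx⟩ := or_bit b _ _ hmv
  obtain ⟨x, rfl⟩ := exists_idxNat (D := chevF4) (List.mem_range.1 hr)
  have e3 := congrFun e2 x
  simp only [vec, sval] at e3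
  rw [Nat.testBit_xor] at hx
  revert e3 hx
  cases ((run (run start)).getD (idxNat x) 0).testBit b <;>
    cases (start.getD (idxNat x) 0).testBit b <;> decide

/-! ### Every element of the unipotent subgroup is a product -/

/-- The first root of a piece. -/
def lead (i : ℕ) : ℕ := (supp.getD i []).headD 0

/-- The other roots of a piece. -/
def rest (i : ℕ) : List ℕ := (supp.getD i []).tail

theorem supp_shape : ∀ i : Fin 12, supp.getD i.val [] = lead i.val :: rest i.val ∧
    lead i.val ∈ posSet chevF4 ∧ (∀ r ∈ rest i.val, r ∈ posSet chevF4 ∧ lead i.val < r) ∧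
    ∀ j : Fin 12, i < j → lead i.val < lead j.val := by decide +kernel

section generic

variable {D : ChevalleyDatum} {F : Type*} [Field F] (R : Chev.Data D F)

/-- The part of the positive unipotent subgroup above an index. -/
def above (k : ℕ) : Subgroup ↥(D.group F) := XS R.sys.x {r | r ∈ posSet D ∧ k < r}

theorem wG_mem_above {k : ℕ} {w : List (ℕ × F)} (h : ∀ p ∈ w, p.1 ∈ posSet D ∧ k < p.1) :
    wG R w ∈ above R k := by
  refine list_prod_mem fun g hg => ?_
  obtain ⟨p, hp, rfl⟩ := List.mem_map.1 hg
  exact x_mem_XS (x := R.sys.x) (S := {r | r ∈ posSet D ∧ k < r}) (h p hp) p.2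

theorem wG_cons (r : ℕ) (t : F) (w : List (ℕ × F)) :
    wG R ((r, t) :: w) = R.sys.x r t * wG R w := rfl

theorem x_zero_pos {r : ℕ} (hr : r ∈ posSet D) : R.sys.x r 0 = 1 :=
  R.sys.x_zero' (mem_posSet.1 hr).1

theorem above_head {k : ℕ} (hk : k ∈ posSet D) {t u : F} {p p' : ↥(D.group F)}
    (hp : p ∈ above R k) (hp' : p' ∈ above R k) (e : R.sys.x k t * p = R.sys.x k u * p') :
    t = u ∧ p = p' := by
  have hcl := R.sys.toUnip.closed_P
  rw [R.sys.P_eq] at hcl
  exact R.sys.toUnip.head_unique hcl hk hp hp' e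

theorem mem_posUnipotent {k : ℕ} (hk : k ∈ posSet D) (t : F) {p : ↥(D.group F)}
    (hp : p ∈ above R k) :
    ((R.sys.x k t * p : ↥(D.group F)) : GL D.Idx F) ∈ D.posUnipotent F := by
  have h : R.sys.x k t * p ∈ R.amb.U :=
    mul_mem (R.sys.x_mem_U (mem_posSet.1 hk).1 (mem_posSet.1 hk).2 t)
      (XS_mono (S' := (↑(posSet D) : Set ℕ)) (fun r hr => hr.1) hp)
  rw [R.amb_U] at h
  exact h

end generic

theorem pw_above {j k : ℕ} (hj : j < 12) (hk : k < lead j) : wz (pw j) ∈ above Q k := by
  rw [wz_def]
  refine wG_mem_above Q fun p hp => ?_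
  obtain ⟨q, hq, rfl⟩ := List.mem_map.1 hp
  obtain ⟨r, hr', rfl⟩ := List.mem_map.1 hq
  obtain ⟨e, hl, hr, -⟩ := supp_shape ⟨j, hj⟩
  rw [e, List.mem_cons] at hr'
  rcases hr' with rfl | hr'
  · exact ⟨hl, hk⟩
  · exact ⟨(hr r hr').1, hk.trans (hr r hr').2⟩

theorem rest_above {i : ℕ} (hi : i < 12) :
    wz ((rest i).map fun r => (r, 1)) ∈ above Q (lead i) := by
  rw [wz_def]
  refine wG_mem_above Q fun p hp => ?_
  obtain ⟨q, hq, rfl⟩ := List.mem_map.1 hp
  obtain ⟨r, hr', rfl⟩ := List.mem_map.1 hq
  exact (supp_shape ⟨i, hi⟩).2.2.1 r hr'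

theorem wz_cons_lead {i : ℕ} (hi : i < 12) :
    wz (pw i) = Q.sys.x (lead i) 1 * wz ((rest i).map fun r => (r, 1)) := by
  obtain ⟨e, -⟩ := supp_shape ⟨i, hi⟩
  rw [pw, e, List.map_cons, wz_def, wz_def]
  show wG Q ((lead i, ((1 : ℤ) : K)) :: _) = _
  rw [wG_cons, Int.cast_one]
  rfl

theorem sel_tail (b : ℕ) {L : List ℕ} {k : ℕ} (hL : ∀ j ∈ L, j < 12 ∧ k < lead j) :
    incl (L.map (sel b)).prod ∈ above Q k := by
  rw [map_list_prod, List.map_map]
  refine list_prod_mem fun g hg => ?_
  obtain ⟨j, hj, rfl⟩ := List.mem_map.1 hg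
  rw [Function.comp_apply, sel]
  split_ifs
  · rw [incl_piece]; exact pw_above (hL j hj).1 (hL j hj).2
  · rw [map_one]; exact one_mem _

attribute [irreducible] above

theorem sel_split (b : ℕ) {i : ℕ} (hi : i < 12) : ∃ p, (b.testBit i = false → p = 1) ∧
    p ∈ above Q (lead i) ∧ incl (sel b i) = Q.sys.x (lead i) (bv (b.testBit i)) * p ∧
    (b.testBit i = true → p = wz ((rest i).map fun r => (r, 1))) := by
  unfold sel
  cases b.testBit i
  · refine ⟨1, fun _ => rfl, Subgroup.one_mem _, ?_, fun h => by simp at h⟩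
    rw [if_neg (by decide), map_one, show bv false = 0 from rfl,
      x_zero_pos Q (supp_shape ⟨i, hi⟩).2.1, mul_one]
  · refine ⟨_, fun h => by simp at h, rest_above hi, ?_, fun _ => rfl⟩
    rw [if_pos rfl, incl_piece, show bv true = 1 from rfl, wz_cons_lead hi]

theorem bits_eq {b b' : ℕ} : ∀ L : List ℕ, L.Pairwise (· < ·) → (∀ i ∈ L, i < 12) →
    incl (L.map (sel b)).prod = incl (L.map (sel b')).prod → ∀ i ∈ L, b.testBit i = b'.testBit i := by
  intro L
  induction L with
  | nil => intro _ _ _ i hi; simp at hi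
  | cons a L ih =>
      intro hp h12 e i hi
      obtain ⟨hpa, hpL⟩ := List.pairwise_cons.1 hp
      have ha : a < 12 := h12 a (by simp)
      have hL12 : ∀ j ∈ L, j < 12 := fun j hj => h12 j (by simp [hj])
      have hlt : ∀ j ∈ L, j < 12 ∧ lead a < lead j := fun j hj =>
        ⟨hL12 j hj, (supp_shape ⟨a, ha⟩).2.2.2 ⟨j, hL12 j hj⟩ (hpa j hj)⟩
      obtain ⟨p, hp0, hpm, hps, hp1⟩ := sel_split b ha
      obtain ⟨p', hp0', hpm', hps', hp1'⟩ := sel_split b' ha
      rw [List.map_cons, List.map_cons, List.prod_cons, List.prod_cons, map_mul, map_mul, hps,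
        hps', mul_assoc, mul_assoc] at e
      obtain ⟨h1, h2⟩ := above_head Q (supp_shape ⟨a, ha⟩).2.1
        (mul_mem hpm (sel_tail b hlt)) (mul_mem hpm' (sel_tail b' hlt)) e
      have hbit : b.testBit a = b'.testBit a := by
        revert h1
        cases b.testBit a <;> cases b'.testBit a <;> decide
      have hpp : p = p' := by
        cases hb : b.testBit a
        · rw [hp0 hb, hp0' (hbit ▸ hb)]
        · rw [hp1 hb, hp1' (hbit ▸ hb)]
      subst hpp
      rcases List.mem_cons.1 hi with rfl | hi
      · exact hbit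
      · exact ih hpL hL12 (mul_left_cancel h2) i hi

theorem prodP_inj : Function.Injective fun b : Fin 4096 => prodP b.val := by
  intro b b' e
  refine Fin.ext (Nat.eq_of_testBit_eq fun i => ?_)
  rcases Nat.lt_or_ge i 12 with hi | hi
  · exact bits_eq _ List.pairwise_lt_range (fun j hj => List.mem_range.1 hj) (congrArg incl e) i
      (List.mem_range.2 hi)
  · have : ∀ c : Fin 4096, c.val.testBit i = false := fun c =>
      Nat.testBit_lt_two_pow (lt_of_lt_of_le (show c.val < 2 ^ 12 from c.isLt)
        (Nat.pow_le_pow_right (by norm_num) hi))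
    rw [this, this]

/-- The unipotent subgroup of the twisted group. -/
noncomputable def UT : Subgroup G := (chevF4.posUnipotent K).subgroupOf (twistedF4 K 1)

theorem prodP_mem (b : ℕ) : prodP b ∈ UT := by
  refine Subgroup.list_prod_mem _ fun g hg => ?_
  obtain ⟨i, hi, rfl⟩ := List.mem_map.1 hg
  obtain ⟨p, -, hpm, hps, -⟩ := sel_split b (List.mem_range.1 hi)
  rw [UT, Subgroup.mem_subgroupOf, ← coe_incl, hps]
  exact mem_posUnipotent Q (supp_shape ⟨i, List.mem_range.1 hi⟩).2.1 _ hpm

theorem field_ok : (∀ t : K, RingHom.id K t = t ^ 2 ^ 0) ∧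
    Fintype.card K = 2 ^ (2 * 0 + 1) := ⟨fun t => by simp, rfl⟩

theorem card_UT : Nat.card UT = 4096 := by
  have h := Twist.F4.card_U field_ok.1 field_ok.2
  rw [show twistedF4 K (2 ^ 0) = twistedF4 K 1 from rfl] at h
  rw [UT, ← Subgroup.inf_subgroupOf_right,
    Nat.card_congr (Subgroup.subgroupOfEquivOfLe inf_le_right).toEquiv, h]
  norm_num

theorem card_G : Nat.card G = 4096 * (1 * 9 * 15 * 65) := by
  have h := Twist.F4.card_group field_ok.1 field_ok.2
  rw [show twistedF4 K (2 ^ 0) = twistedF4 K 1 from rfl] at h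
  rw [h]
  norm_num

/-- An injection into a type at most as large is onto. -/
theorem surj_of_card {α : Type*} {n : ℕ} [Finite α] (f : Fin n → α) (hf : Function.Injective f)
    (h : Nat.card α ≤ n) : Function.Surjective f :=
  (hf.bijective_of_nat_card_le (by rwa [Nat.card_fin])).2

attribute [irreducible] UT prodP sel

theorem exists_prodP {u : G} (hu : u ∈ UT) : ∃ b, b < 4096 ∧ u = prodP b := by
  have : Finite UT := Nat.finite_of_card_ne_zero (by rw [card_UT]; norm_num)
  have hinj : Function.Injective fun b : Fin 4096 => (⟨prodP b.val, prodP_mem _⟩ : UT) :=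
    fun b b' e => prodP_inj (congrArg Subtype.val e)
  obtain ⟨b, hb⟩ := surj_of_card _ hinj card_UT.le ⟨u, hu⟩
  exact ⟨b.val, b.isLt, (congrArg Subtype.val hb).symm⟩

/-- An element of the unipotent subgroup of square one lies in the commutator subgroup. -/
theorem sq_one_mem {u : G} (hu : u ∈ UT) (h : u * u = 1) : u ∈ commutator G := by
  obtain ⟨b, hb, rfl⟩ := exists_prodP hu
  exact prodP_mem_commutator (Bool.eq_false_iff.2 fun hp => prodP_sq_ne hb hp h)

end Cfsg.Agent.H27.F4Two
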